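import Cfsg.Agent.Known.GTwoCover.Conj

/-! The three Bruhat cells outside the parabolic subgroup meet `V · diag · U`. -/

set_option autoImplicit false
set_option linter.unusedSectionVars false

open Cfsg.Lie

namespace Cfsg.Lib.GTwoCover

open Cfsg.Lib.Chev
open Cfsg.Lib.GTwoInv (S2 half_eq x x_add x_zero comm commutes i0 i1 wv)
open Cfsg.Lib.GTwoOdd (T T_conj cA cB fb f2 fb_uM fb_lM f2_uM f2_lM f1 glD dM mat_dM fb_dM f2_dM W2 f2_wM_act)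

variable {F : Type*} [Field F]

local notation "SL2F" => Matrix.SpecialLinearGroup (Fin 2) F
local notation "GL2F" => GL (Fin 2) F
local notation "GG" => GL chevG2.Idx F

theorem uM_mul_wM {a : F} (ha : a ≠ 0) :
    (uM a * wM : SL2F) = lM a⁻¹ * dM (-Units.mk0 a ha) * uM (-a⁻¹) := by
  apply mat_inj
  simp only [mat_mul, mat_uM, mat_wM, mat_lM, mat_dM, Units.val_neg, Units.val_mk0]
  ext i j
  fin_cases i <;> fin_cases j <;> simp [Matrix.mul_apply, Fin.sum_univ_two, ha]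

theorem uM_mul_lM {a g : F} (δ : Fˣ) (hδ : (δ : F) = 1 + a * g) :
    (uM a * lM g : SL2F) = lM (g / δ) * dM δ * uM (a / δ) := by
  have h0 := δ.ne_zero
  apply mat_inj
  simp only [mat_mul, mat_uM, mat_lM, mat_dM]
  ext i j
  fin_cases i <;> fin_cases j <;> simp [Matrix.mul_apply, Fin.sum_univ_two] <;> field_simp <;>
    first | ring1 | linear_combination hδ | linear_combination -hδ | linear_combination g * hδ

/-- `n` meets `V · D · U` after a translation by an element of `U`. -/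
def Decomp (n : GG) (D : GL2F) : Prop :=
  ∃ u ∈ Urad F, ∃ v ∈ Vrad F, ∃ w ∈ Urad F, u * n = v * Lam D * w

theorem T_eq_Lam' {p : Fˣ × Fˣ} {a b : Fˣ} (ha : p.1 ^ 2 * p.2 = a) (hb : p.1 * p.2 = b) :
    T p = Lam (glD a b) := by
  obtain ⟨u, v⟩ := p
  rw [T_eq_Lam, ha, hb]

theorem mem6 : 6 ∈ radRoots ∧ 10 ∈ radRoots ∧ 11 ∈ radRoots := by decide

theorem fb_cell {a : F} (ha : a ≠ 0) :
    (x 6 a * fb wM : GG) = x 5 a⁻¹ * T ((-Units.mk0 a ha)⁻¹, (-Units.mk0 a ha) ^ 2) * x 6 (-a⁻¹) := by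
  rw [← fb_uM, ← fb_lM, ← fb_uM, ← fb_dM, ← map_mul, ← map_mul, ← map_mul, uM_mul_wM ha]

theorem f2_cell : ∃ κ : F, κ ≠ 0 ∧ ∀ s : Fˣ, ∃ e f : F, e ≠ 0 ∧
    (x 11 (κ * s) * f2 wM : GG) = x 0 e * T (1, -s) * x 11 f := by
  obtain ⟨κ, hκ, eu⟩ := f2_uM (F := F)
  obtain ⟨κ', hκ', el⟩ := f2_lM (F := F)
  refine ⟨κ, hκ, fun s => ⟨κ' * (s : F)⁻¹, κ * -(s : F)⁻¹, mul_ne_zero hκ' (inv_ne_zero s.ne_zero), ?_⟩⟩
  rw [← eu, ← el, ← eu, ← f2_dM, ← map_mul, ← map_mul, ← map_mul, uM_mul_wM s.ne_zero]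
  simp

theorem decomp_sixty (σ : Fˣ) : Decomp (fb wM : GG) (glD 1 σ) := by
  have ha : -(σ : F) ≠ 0 := neg_ne_zero.2 σ.ne_zero
  refine ⟨x 6 (-(σ : F)), x_mem_Urad mem6.1 _, x 5 (-(σ : F))⁻¹, x_mem_Vrad (r := 6) mem6.1 _,
    x 6 (-(-(σ : F))⁻¹), x_mem_Urad mem6.1 _, ?_⟩
  rw [fb_cell ha]
  congr 2
  refine T_eq_Lam' ?_ ?_ <;> apply Units.ext <;> simp <;> field_simp

theorem terms06 : chevG2.commTerms 0 6 = [(1, (1, (1, 1)))] := by decide +kernel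
theorem terms010 : chevG2.commTerms 0 10 = [(5, (-1, (1, 1)))] := by decide +kernel
theorem pairs_com : ∀ p ∈ [(1, 6), (5, 10)],
    p.1 < 12 ∧ p.2 < 12 ∧ p.2 ≠ p.1 ∧ p.2 ≠ chevG2.neg p.1 ∧ chevG2.commTerms p.1 p.2 = [] := by
  decide +kernel

theorem x6_x0 (t u : F) : (x 6 u * x 0 t : GG) = x 0 t * x 1 (-(t * u)) * x 6 u := by
  obtain ⟨a, b, c, d, e⟩ := pairs_com (1, 6) (by simp)
  rw [comm (by norm_num) (by norm_num) (by norm_num) (by decide +kernel), ChevalleyDatum.commWord, terms06,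
    mul_assoc, mul_assoc (x 0 t)]
  simp only [Ok.wG, List.map_cons, List.map_nil, List.prod_cons, List.prod_nil, mul_one, pow_one, Int.cast_one,
    Int.cast_neg, one_mul, neg_mul, mul_neg, neg_neg]
  exact congrArg _ (commutes (r := 1) (s := 6) a b c d e _ _)

theorem x10_x0 (t u : F) : (x 10 u * x 0 t : GG) = x 0 t * x 5 (t * u) * x 10 u := by
  obtain ⟨a, b, c, d, e⟩ := pairs_com (5, 10) (by simp)
  rw [comm (by norm_num) (by norm_num) (by norm_num) (by decide +kernel), ChevalleyDatum.commWord, terms010,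
    mul_assoc, mul_assoc (x 0 t)]
  simp only [Ok.wG, List.map_cons, List.map_nil, List.prod_cons, List.prod_nil, mul_one, pow_one, Int.cast_one,
    Int.cast_neg, one_mul, neg_mul, mul_neg, neg_neg]
  exact congrArg _ (commutes (r := 5) (s := 10) a b c d e _ _)

theorem T_move (p : Fˣ × Fˣ) {r : ℕ} (hr : r < 12) (t : F) :
    (T p * x r t : GG) = x r (((p.1 ^ cA r * p.2 ^ cB r : Fˣ) : F) * t) * T p :=
  mul_inv_eq_iff_eq_mul.1 (T_conj hr p t)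

theorem T_move' (p : Fˣ × Fˣ) {r : ℕ} (hr : r ∈ radRoots) (t : F) :
    ∃ s : F, (x r t * T p : GG) = T p * x r s := by
  refine ⟨(((p.1 ^ cA r * p.2 ^ cB r : Fˣ)⁻¹ : Fˣ) : F) * t, ?_⟩
  rw [T_move p (radRoots_lt r hr).1, ← mul_assoc, ← Units.val_mul, mul_inv_cancel, Units.val_one, one_mul]

theorem wv_fb : wv [i1] 11 = 10 ∧ wv [i1] 7 = 8 ∧ wv [i1] 8 = 7 := by decide +kernel

theorem decomp_onetwenty (δ₁ δ₂ : Fˣ) : Decomp (fb wM * f2 wM : GG) (glD δ₁ δ₂) := by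
  obtain ⟨κ, hκ, hcell⟩ := f2_cell (F := F)
  obtain ⟨c, hc, ec⟩ := act_conj (fb_wM_act (F := F)) (show 11 < 12 by norm_num) wv_fb.1
  let s : Fˣ := -δ₁
  obtain ⟨e, f, -, he⟩ := hcell s
  let a : Fˣ := δ₂ * s⁻¹
  have h10 : (x 10 (c * (κ * s)) * fb wM : GG) = fb wM * x 11 (κ * s) := by
    rw [← ec, inv_mul_cancel_right]
  set p₁ : Fˣ × Fˣ := ((-Units.mk0 (a : F) a.ne_zero)⁻¹, (-Units.mk0 (a : F) a.ne_zero) ^ 2) with hp₁
  set p₂ : Fˣ × Fˣ := (1, -s) with hp₂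
  obtain ⟨w6, hw6⟩ := T_move' (F := F) p₂ mem6.1 (-(a : F)⁻¹)
  refine ⟨x 6 (a : F) * x 10 (c * (κ * s)), mul_mem (x_mem_Urad mem6.1 _) (x_mem_Urad mem6.2.1 _),
    x 5 (a : F)⁻¹ * (x 0 (((p₁.1 ^ cA 0 * p₁.2 ^ cB 0 : Fˣ) : F) * e) *
      x 1 (((p₁.1 ^ cA 1 * p₁.2 ^ cB 1 : Fˣ) : F) * -(e * -(a : F)⁻¹))),
    mul_mem (x_mem_Vrad (r := 6) mem6.1 _) (mul_mem (x_mem_Vrad (r := 11) mem6.2.2 _)
      (x_mem_Vrad (r := 10) mem6.2.1 _)),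
    x 6 w6 * x 11 f, mul_mem (x_mem_Urad mem6.1 _) (x_mem_Urad mem6.2.2 _), ?_⟩
  have hT : T p₁ * T p₂ = (Lam (glD δ₁ δ₂) : GG) := by
    rw [← map_mul]
    refine T_eq_Lam' ?_ ?_ <;> apply Units.ext <;> simp [hp₁, hp₂, a, s] <;> field_simp
  calc x 6 (a : F) * x 10 (c * (κ * s)) * (fb wM * f2 wM)
      = x 6 (a : F) * (x 10 (c * (κ * s)) * fb wM) * f2 wM := by simp only [mul_assoc]
    _ = (x 6 (a : F) * fb wM) * (x 11 (κ * s) * f2 wM) := by rw [h10]; simp only [mul_assoc]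
    _ = x 5 (a : F)⁻¹ * T p₁ * (x 6 (-(a : F)⁻¹) * x 0 e) * T p₂ * x 11 f := by
        rw [fb_cell a.ne_zero, he]; simp only [mul_assoc, hp₁, hp₂]
    _ = x 5 (a : F)⁻¹ * (T p₁ * x 0 e) * x 1 (-(e * -(a : F)⁻¹)) * (x 6 (-(a : F)⁻¹) * T p₂) * x 11 f := by
        rw [x6_x0]; simp only [mul_assoc]
    _ = x 5 (a : F)⁻¹ * x 0 (((p₁.1 ^ cA 0 * p₁.2 ^ cB 0 : Fˣ) : F) * e) *
          (T p₁ * x 1 (-(e * -(a : F)⁻¹))) * (T p₂ * x 6 w6) * x 11 f := by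
        rw [T_move p₁ (by norm_num : 0 < 12), hw6]; simp only [mul_assoc]
    _ = _ := by rw [T_move p₁ (by norm_num : 1 < 12), ← hT]; simp only [mul_assoc]

theorem decomp_oneeighty (δ₁ δ₂ : Fˣ) : Decomp (f2 wM : GG) (glD δ₁ δ₂) := by
  obtain ⟨κ, hκ, hcell⟩ := f2_cell (F := F)
  let s : Fˣ := -δ₁
  obtain ⟨e, f, he0, he⟩ := hcell s
  let δ : Fˣ := δ₂ * δ₁⁻¹
  set a : F := ((δ : F) - 1) / (e * 1) with ha
  have hδ : (δ : F) = 1 + a * (e * 1) := by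
    rw [ha, div_mul_cancel₀ _ (by simpa using he0)]; ring
  have h65 : (x 6 a * x 5 (e * 1) : GG) = x 5 (e * 1 / δ) * T (δ⁻¹, δ ^ 2) * x 6 (a / δ) := by
    rw [← fb_uM, ← fb_lM, ← fb_lM, ← fb_uM, ← fb_dM, ← map_mul, ← map_mul, ← map_mul, uM_mul_lM δ hδ]
  set p₁ : Fˣ × Fˣ := (δ⁻¹, δ ^ 2) with hp₁
  set p₂ : Fˣ × Fˣ := (1, -s) with hp₂
  obtain ⟨w6, hw6⟩ := T_move' (F := F) p₂ mem6.1 (a / δ)
  obtain ⟨w10, hw10⟩ := T_move' (F := F) p₂ mem6.2.1 1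
  refine ⟨x 6 a * x 10 1 * x 11 (κ * s), mul_mem (mul_mem (x_mem_Urad mem6.1 _) (x_mem_Urad mem6.2.1 _))
      (x_mem_Urad mem6.2.2 _),
    x 0 e * x 1 (-(e * a)) * x 5 (e * 1 / δ),
    mul_mem (mul_mem (x_mem_Vrad (r := 11) mem6.2.2 _) (x_mem_Vrad (r := 10) mem6.2.1 _))
      (x_mem_Vrad (r := 6) mem6.1 _),
    x 6 w6 * x 10 w10 * x 11 f,
    mul_mem (mul_mem (x_mem_Urad mem6.1 _) (x_mem_Urad mem6.2.1 _)) (x_mem_Urad mem6.2.2 _), ?_⟩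
  have hT : T p₁ * T p₂ = (Lam (glD δ₁ δ₂) : GG) := by
    rw [← map_mul]
    refine T_eq_Lam' ?_ ?_ <;> apply Units.ext <;> simp [hp₁, hp₂, δ, s] <;> field_simp
  calc x 6 a * x 10 1 * x 11 (κ * s) * f2 wM
      = x 6 a * (x 10 1 * x 0 e) * T p₂ * x 11 f := by
        rw [mul_assoc _ (x 11 _), he]; simp only [mul_assoc, hp₂]
    _ = (x 6 a * x 0 e) * x 5 (e * 1) * x 10 1 * T p₂ * x 11 f := by rw [x10_x0]; simp only [mul_assoc]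
    _ = x 0 e * x 1 (-(e * a)) * (x 6 a * x 5 (e * 1)) * x 10 1 * T p₂ * x 11 f := by
        rw [x6_x0]; simp only [mul_assoc]
    _ = x 0 e * x 1 (-(e * a)) * x 5 (e * 1 / δ) * T p₁ * x 6 (a / δ) * (x 10 1 * T p₂) * x 11 f := by
        rw [h65]; simp only [mul_assoc]
    _ = x 0 e * x 1 (-(e * a)) * x 5 (e * 1 / δ) * T p₁ * (x 6 (a / δ) * T p₂) * x 10 w10 * x 11 f := by
        rw [hw10]; simp only [mul_assoc]
    _ = _ := by rw [hw6, ← hT]; simp only [mul_assoc]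

end Cfsg.Lib.GTwoCover
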