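import Mathlib
import Cfsg.Agent.Known.SpFourCover.Two

/-!
Two-by-two matrices with irreducible characteristic polynomial `X² - t X + d` over a finite field:
the `(q+1)`-st power is the scalar `d`, and any two of them are conjugate.
-/

set_option autoImplicit false

open Matrix

namespace Cfsg.Lib.GTwoCover

open Cfsg.Lib.SpFourCover (EllipticPair comp2 conj_comp2 ne_zero_of_elliptic)

variable {F : Type*} [Field F]

local notation "M2" => Matrix (Fin 2) (Fin 2) F

theorem cayley2 (A : M2) : A * A + A.det • (1 : M2) = A.trace • A := by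
  ext i j
  fin_cases i <;> fin_cases j <;>
    simp [Matrix.mul_apply, Fin.sum_univ_two, Matrix.trace_fin_two, Matrix.det_fin_two] <;> ring

theorem exists_lin (A : M2) : ∀ n : ℕ, ∃ a b : F, A ^ n = a • (1 : M2) + b • A
  | 0 => ⟨1, 0, by simp⟩
  | n + 1 => by
    obtain ⟨a, b, e⟩ := exists_lin A n
    refine ⟨-(b * A.det), a + b * A.trace, ?_⟩
    rw [pow_succ, e, add_mul, smul_mul_assoc, smul_mul_assoc, one_mul,
      eq_sub_of_add_eq (cayley2 A), smul_sub, smul_smul, smul_smul]
    rw [add_smul, neg_smul]
    abel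

theorem det_lin {t d : F} (h : EllipticPair t d) {A : M2} (ht : A.trace = t) (hd : A.det = d) {a b : F}
    (he : (a • (1 : M2) + b • A).det = 0) : a = 0 ∧ b = 0 := by
  have e : a * a + a * b * t + b * b * d = 0 := by
    rw [← he, ← ht, ← hd]
    simp [Matrix.det_fin_two, Matrix.trace_fin_two]
    ring
  by_cases hb : b = 0
  · subst hb
    exact ⟨mul_self_eq_zero.1 (by linear_combination e), rfl⟩
  · exfalso
    apply h.noRoot (-a / b)
    field_simp
    linear_combination e

variable [Fintype F]

theorem pow_card_succ {t d : F} (h : EllipticPair t d) {A : M2} (ht : A.trace = t) (hd : A.det = d) :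
    A ^ (Fintype.card F + 1) = d • (1 : M2) := by
  obtain ⟨p, hp⟩ := CharP.exists F
  obtain ⟨n, hpp, hn⟩ := FiniteField.card F p
  haveI : Fact p.Prime := ⟨hpp⟩
  set q := Fintype.card F with hq
  set B := A ^ q with hB
  have hAB : Commute A B := (Commute.refl A).pow_right q
  have hch := cayley2 A
  rw [ht, hd] at hch
  have hB2 : B * B + d • (1 : M2) = t • B := by
    have h1 : (A * A + d • (1 : M2)) ^ q = (t • A) ^ q := by rw [hch]
    have hc : Commute (A * A) (d • (1 : M2)) := (Commute.one_right (A * A)).smul_right d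
    rw [hn, add_pow_char_pow_of_commute _ _ hc, ← hn, (Commute.refl A).mul_pow, smul_pow, smul_pow,
      FiniteField.pow_card, FiniteField.pow_card, one_pow] at h1
    exact h1
  have hprod : (B - A) * (B - (t • (1 : M2) - A)) = 0 := by
    simp only [sub_mul, mul_sub, mul_smul_comm, mul_one, ← hAB.eq, smul_sub]
    rw [← hB2, ← hch]
    abel
  obtain ⟨a, b, hab⟩ := exists_lin A q
  by_cases hz : (B - A).det = 0
  · exfalso
    have e : B - A = a • (1 : M2) + (b - 1) • A := by
      rw [hB, hab, sub_smul, one_smul]; abel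
    rw [e] at hz
    obtain ⟨ha0, hb0⟩ := det_lin h ht hd hz
    have hBA : A ^ q = A := by
      rw [hab, ha0, sub_eq_zero.1 hb0, zero_smul, one_smul, zero_add]
    open Polynomial in
    have hroots : (∏ c : F, (X - C c) : F[X]) = X ^ q - X := by
      have hm : (X ^ q - X : F[X]).Monic :=
        monic_X_pow_sub (by rw [degree_X]; exact_mod_cast Fintype.one_lt_card (α := F))
      have hr := FiniteField.roots_X_pow_card_sub_X F
      have hdeg : (X ^ q - X : F[X]).roots.card = (X ^ q - X : F[X]).natDegree := by
        rw [hr, FiniteField.X_pow_card_sub_X_natDegree_eq F Fintype.one_lt_card]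
        simp [hq]
      have := prod_multiset_X_sub_C_of_monic_of_roots_card_eq hm hdeg
      rw [hr] at this
      exact this
    have key : ∀ s : Multiset F,
        (Polynomial.aeval A (s.map fun c => Polynomial.X - Polynomial.C c).prod).det ≠ 0 := by
      intro s
      induction s using Multiset.induction_on with
      | empty => simp
      | cons c s ih =>
        rw [Multiset.map_cons, Multiset.prod_cons, map_mul, Matrix.det_mul]
        refine mul_ne_zero ?_ ih
        intro h0
        simp only [map_sub, Polynomial.aeval_X, Polynomial.aeval_C, Algebra.algebraMap_eq_smul_one] at h0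
        have := det_lin h ht hd (a := -c) (b := 1) (by
          rw [one_smul, neg_smul, neg_add_eq_sub]; exact h0)
        exact one_ne_zero this.2
    refine key Finset.univ.val ?_
    rw [← Finset.prod_eq_multiset_prod, hroots]
    simp [hBA]
  · have hu : IsUnit (B - A).det := isUnit_iff_ne_zero.2 hz
    have h2 : B - (t • (1 : M2) - A) = 0 := by
      have := congrArg (fun M => (B - A)⁻¹ * M) hprod
      simp only [Matrix.nonsing_inv_mul_cancel_left _ _ hu, mul_zero] at this
      exact this
    rw [pow_succ, ← hB, sub_eq_zero.1 h2, sub_mul, smul_mul_assoc, one_mul, ← hch]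
    abel

omit [Fintype F] in
theorem exists_conj {t d : F} (h : EllipticPair t d) {y y' : GL (Fin 2) F}
    (ht : (y : M2).trace = t) (hd : (y : M2).det = d) (ht' : (y' : M2).trace = t) (hd' : (y' : M2).det = d) :
    ∃ g : GL (Fin 2) F, g * y * g⁻¹ = y' := by
  obtain ⟨C, hC, hyC⟩ := conj_comp2 (y : M2) (ne_zero_of_elliptic h ht hd)
  obtain ⟨C', hC', hyC'⟩ := conj_comp2 (y' : M2) (ne_zero_of_elliptic h ht' hd')
  rw [ht, hd] at hyC
  rw [ht', hd'] at hyC'
  set G := Matrix.GeneralLinearGroup.mkOfDetNeZero C hC
  set G' := Matrix.GeneralLinearGroup.mkOfDetNeZero C' hC'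
  set K := Matrix.GeneralLinearGroup.mkOfDetNeZero (comp2 t d) (by simp [h.hd0])
  have e : y * G = G * K := Units.ext hyC
  have e' : y' * G' = G' * K := Units.ext hyC'
  refine ⟨G' * G⁻¹, ?_⟩
  calc G' * G⁻¹ * y * (G' * G⁻¹)⁻¹ = G' * (G⁻¹ * (y * G)) * G'⁻¹ := by group
    _ = G' * K * G'⁻¹ := by rw [e, inv_mul_cancel_left]
    _ = y' := by rw [← e', mul_inv_cancel_right]

end Cfsg.Lib.GTwoCover
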