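import Cfsg.Agent.Known.GTwoCover.Rad
import Cfsg.Agent.Known.GTwoCover.Two

/-! The class of an elliptic element of the Levi complement meets every coset of both radicals. -/

set_option autoImplicit false
set_option linter.unusedSectionVars false

open Cfsg.Lie

namespace Cfsg.Lib.GTwoCover

open Cfsg.Lib.Chev
open Cfsg.Lib.SpFourCover (EllipticPair comp2 comp2_trace comp2_det)
open Cfsg.Lib.GTwoInv (half_eq x mk mk_zero mk_inj)
open Cfsg.Lib.GTwoOdd (T T_conj cA cB dl dl_val glD dl_glD)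

variable {F : Type*} [Field F] [Fintype F]

local notation "GL2F" => GL (Fin 2) F
local notation "M2" => Matrix (Fin 2) (Fin 2) F
local notation "GG" => GL chevG2.Idx F

theorem glD_val' (a b : Fˣ) : (glD a b : M2) = !![(a : F), 0; 0, (b : F)] := rfl

/-- A fixed-point-free element is conjugate to all its translates. -/
theorem exists_conj_mul {G : Type*} [Group G] (U : Subgroup G) [Finite ↥U] {a : G}
    (hn : ∀ u ∈ U, a⁻¹ * u * a ∈ U) (hf : ∀ u ∈ U, a * u * a⁻¹ = u → u = 1) {u : G} (hu : u ∈ U) :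
    ∃ g ∈ U, g * a * g⁻¹ = a * u := by
  let φ : ↥U → ↥U := fun g => ⟨a⁻¹ * g * a * (g : G)⁻¹, mul_mem (hn _ g.2) (inv_mem g.2)⟩
  have hinj : Function.Injective φ := by
    intro g g' h
    have e : a⁻¹ * g * a * (g : G)⁻¹ = a⁻¹ * g' * a * (g' : G)⁻¹ := congrArg Subtype.val h
    have e2 : (g : G) * a * (g : G)⁻¹ = g' * a * (g' : G)⁻¹ := by
      have := congrArg (fun z => a * z) e
      simpa [mul_assoc] using this
    have h1 : a * ((g' : G)⁻¹ * g) * a⁻¹ = (g' : G)⁻¹ * g := by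
      calc a * ((g' : G)⁻¹ * g) * a⁻¹ = (g' : G)⁻¹ * (g' * a * (g' : G)⁻¹) * g * a⁻¹ := by group
        _ = _ := by rw [← e2]; group
    exact Subtype.ext (inv_mul_eq_one.1 (hf _ (mul_mem (inv_mem g'.2) g.2) h1)).symm
  obtain ⟨g, hg⟩ := Finite.surjective_of_injective hinj ⟨u, hu⟩
  have e : a⁻¹ * g * a * (g : G)⁻¹ = u := congrArg Subtype.val hg
  exact ⟨g, g.2, by rw [← e]; group⟩

theorem Lam_glD_scalar (d : Fˣ) : Lam (glD d d) = T (1, d) := by
  rw [Lam_glD, mul_inv_cancel, ← mul_assoc, inv_mul_cancel, one_mul]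

theorem cB_rad : cB 6 = 1 ∧ cB 8 = 1 ∧ cB 9 = 1 ∧ cB 10 = 1 ∧ cB 11 = 2 := by decide +kernel

variable {t d : F} (h : EllipticPair t d)

include h in
theorem fixed_trivial {A : GL2F} (ht : (A : M2).trace = t) (hd : (A : M2).det = d) {u : GG} (hu : u ∈ Urad F)
    (he : Lam A * u * (Lam A)⁻¹ = u) : u = 1 := by
  have hdd : (dl A : F) = d := (Matrix.GeneralLinearGroup.val_det_apply A).trans hd
  have hpow : A ^ (Fintype.card F + 1) = glD (dl A) (dl A) := by
    apply Units.ext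
    rw [Units.val_pow_eq_pow_val, pow_card_succ h ht hd, glD_val', hdd]
    ext i j
    fin_cases i <;> fin_cases j <;> simp
  have hc : Commute (Lam A) u := mul_inv_eq_iff_eq_mul.1 he
  have hc2 := hc.pow_left (Fintype.card F + 1)
  rw [← map_pow, hpow, Lam_glD_scalar] at hc2
  have hfix : T (1, dl A) * u * (T (1, dl A))⁻¹ = u := mul_inv_eq_iff_eq_mul.2 hc2.eq
  obtain ⟨a, c, e, f, g, rfl⟩ := exists_mk7 hu
  obtain ⟨b6, b8, b9, b10, b11⟩ := cB_rad
  have e1 : T (1, dl A) * mk a 0 c e f g * (T (1, dl A))⁻¹ = mk (d * a) 0 (d * c) (d * e) (d * f) (d ^ 2 * g) := by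
    rw [mk_zero7, mk_zero7, show ∀ p q r s w n : GG, n * (p * q * r * s * w) * n⁻¹ =
      (n * p * n⁻¹) * (n * q * n⁻¹) * (n * r * n⁻¹) * (n * s * n⁻¹) * (n * w * n⁻¹) from
      fun p q r s w n => by group, T_conj (by norm_num), T_conj (by norm_num), T_conj (by norm_num),
      T_conj (by norm_num), T_conj (by norm_num), b6, b8, b9, b10, b11]
    simp [hdd, Units.val_zpow_eq_zpow_val]
  rw [e1] at hfix
  obtain ⟨ha, -, hc', he', hf', -⟩ := mk_inj hfix
  have hd1 := sub_ne_zero.2 h.hd1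
  have z : ∀ w : F, d * w = w → w = 0 := fun w hw =>
    (mul_eq_zero.1 (show (d - 1) * w = 0 by linear_combination hw)).resolve_left hd1
  rw [z a ha, z c hc', z e he', z f hf', mk_zero7] at he ⊢
  simp only [GTwoInv.x_zero, one_mul] at he ⊢
  rw [Lam_x11, hdd] at he
  rw [z g (GTwoOdd.x_inj (by norm_num) he), GTwoInv.x_zero]

/-- The elliptic element. -/
noncomputable def ell : GG :=
  Lam (Matrix.GeneralLinearGroup.mkOfDetNeZero (comp2 t d) (by rw [comp2_det]; exact h.hd0))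

theorem ell_mem : ell h ∈ chevG2.group F := Lam_mem_group _

/-- The conjugacy class of the elliptic element. -/
def CE (g : GG) : Prop := ∃ k ∈ chevG2.group F, k * ell h * k⁻¹ = g

theorem CE.conj {g k : GG} (hk : k ∈ chevG2.group F) (c : CE h g) : CE h (k * g * k⁻¹) := by
  obtain ⟨m, hm, rfl⟩ := c
  exact ⟨k * m, mul_mem hk hm, by group⟩

theorem CE_Lam {y : GL2F} (ht : (y : M2).trace = t) (hd : (y : M2).det = d) : CE h (Lam y) := by
  obtain ⟨g, hg⟩ := exists_conj h (y := Matrix.GeneralLinearGroup.mkOfDetNeZero (comp2 t d)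
    (by rw [comp2_det]; exact h.hd0)) (comp2_trace t d) (comp2_det t d) ht hd
  exact ⟨Lam g, Lam_mem_group _, by rw [ell, ← map_inv, ← map_mul, ← map_mul, hg]⟩

theorem CE_Lam_mul {y : GL2F} (ht : (y : M2).trace = t) (hd : (y : M2).det = d) {u : GG} (hu : u ∈ Urad F) :
    CE h (Lam y * u) := by
  obtain ⟨g, hg, e⟩ := exists_conj_mul (Urad F) (fun v hv => Lam_conj' y hv)
    (fun v hv => fixed_trivial h ht hd hv) hu
  exact e ▸ (CE_Lam h ht hd).conj h (Urad_le_group hg)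

theorem CE_mul_Lam_inv {y : GL2F} (ht : (y : M2).trace = t) (hd : (y : M2).det = d) {v : GG} (hv : v ∈ Vrad F) :
    CE h (v * (Lam y)⁻¹) := by
  obtain ⟨u, hu, rfl⟩ := mem_Vrad.1 hv
  have ht' : (trG y : M2).trace = t := by rw [trG_val, Matrix.trace_transpose, ht]
  have hd' : (trG y : M2).det = d := by rw [trG_val, Matrix.det_transpose, hd]
  have key : (n0 : GG)⁻¹ * (Lam y)⁻¹ * n0 = Lam (trG y) := by
    have := congrArg (fun z : GG => z⁻¹) (n0_Lam y)
    simpa [mul_assoc] using this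
  rw [show n0 * u * (n0 : GG)⁻¹ * (Lam y)⁻¹ = n0 * (Lam (trG y) * ((Lam (trG y))⁻¹ * u * Lam (trG y))) *
    (n0 : GG)⁻¹ by rw [show Lam (trG y) * ((Lam (trG y))⁻¹ * u * Lam (trG y)) = u * Lam (trG y) by group, ← key]; group]
  exact (CE_Lam_mul h ht' hd' (Lam_conj' _ hu)).conj h n0_mem

/-- A matrix of determinant one that is a product of the required kind. -/
def GoodMat (l : GL2F) : Prop :=
  (l : M2).det = 1 ∧ (l = 1 ∨ (l : M2).trace ≠ 2 ∧ (l : M2) ≠ -1)

theorem exists_CE_mul {l : GL2F} (hl : GoodMat l) {u v : GG} (hu : u ∈ Urad F) (hv : v ∈ Vrad F) :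
    ∃ a b : GG, CE h a ∧ CE h b ∧ v * Lam l * u = a * b := by
  obtain ⟨hl1, hl2⟩ := hl
  obtain ⟨y, y1, y2, y3, y4⟩ := Cfsg.Lib.SpFourCover.exists_factor h (l : M2) hl1
    (hl2.imp (fun e => by rw [e, Units.val_one]) id)
  let Y : GL2F := Matrix.GeneralLinearGroup.mkOfDetNeZero y (by rw [y2]; exact h.hd0)
  refine ⟨v * (Lam Y)⁻¹, Lam (Y * l) * u, CE_mul_Lam_inv h y1 y2 hv,
    CE_Lam_mul h (y := Y * l) ?_ ?_ hu, by rw [map_mul]; group⟩
  · exact y3
  · exact y4

end Cfsg.Lib.GTwoCover
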