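import Cfsg.Agent.Known.GTwoCover.Cells
import Cfsg.Agent.S1055

/-! `G₂(q)`, `q ≥ 3`, has a semisimple class whose square contains every non-identity element. -/

set_option autoImplicit false
set_option linter.unusedSectionVars false

open Cfsg.Lie

namespace Cfsg.Lib.GTwoCover

open Cfsg.Lib.Chev
open Cfsg.Lib.SpFourCover (EllipticPair comp2 comp2_det comp2_trace exists_ellipticPair)
open Cfsg.Lib.GTwoInv (S2 half_eq x x_add x_zero i0 i1 words wv wv_lt exists_word_rep)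
open Cfsg.Lib.GTwoOdd (T T_conj cA cB f1 fb f2 f1_uM f1_lM dl dl_val glD dl_glD toG toG_val dl_toG W2 f1_f2
  f2_wM_act f2_wM_mono f1_wM fb_wM exists_T T_mem_group f1_commute_x x_inj)

variable {F : Type*} [Field F] [Fintype F]

local notation "SL2F" => Matrix.SpecialLinearGroup (Fin 2) F
local notation "GL2F" => GL (Fin 2) F
local notation "M2" => Matrix (Fin 2) (Fin 2) F
local notation "GG" => GL chevG2.Idx F

/-! ### Choice of the Levi part -/

theorem goodMat_of {l : GL2F} (h1 : (l : M2).det = 1) (h2 : (l : M2).trace ≠ 2)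
    (h3 : (l : M2) 1 0 ≠ 0 ∨ (l : M2) 0 1 ≠ 0) : GoodMat l :=
  ⟨h1, Or.inr ⟨h2, fun e => by rw [e] at h3; simp at h3⟩⟩

theorem goodMat_one : GoodMat (1 : GL2F) := ⟨by simp, Or.inl rfl⟩

theorem three_ne_two : (3 : F) ≠ 2 := fun h => one_ne_zero (α := F) (by linear_combination h)

theorem val_det_glD (a b : Fˣ) (M : GL2F) :
    ((glD a b * M : GL2F) : M2).det = (a : F) * b * (dl M : F) := by
  rw [← Matrix.GeneralLinearGroup.val_det_apply]
  show (dl (glD a b * M) : F) = _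
  rw [map_mul, dl_glD, Units.val_mul, Units.val_mul]

theorem val_det_glD' (a b : Fˣ) (M : GL2F) (h : a * b * dl M = 1) : ((glD a b * M : GL2F) : M2).det = 1 := by
  rw [val_det_glD, ← Units.val_mul, ← Units.val_mul, h, Units.val_one]

theorem dl_toG_mul (X : SL2F) (A : GL2F) : dl (toG X * A) = dl A := by rw [map_mul, dl_toG, one_mul]
theorem dl_mul_toG (X : SL2F) (A : GL2F) : dl (A * toG X) = dl A := by rw [map_mul, dl_toG, mul_one]

theorem sixty_choice (A : GL2F) : ∃ σ : Fˣ, ∃ z : F,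
    GoodMat (glD 1 σ * (toG (uM z) * A)) ∨ GoodMat (glD 1 σ * (A * toG (uM z))) := by
  refine ⟨(dl A)⁻¹, ?_⟩
  have hd := dl_val A
  by_cases hc : (A : M2) 1 0 = 0
  · rw [hc, mul_zero, sub_zero] at hd
    have ha : (A : M2) 0 0 ≠ 0 := fun e => (dl A).ne_zero (by rw [hd, e, zero_mul])
    have he : (A : M2) 1 1 ≠ 0 := fun e => (dl A).ne_zero (by rw [hd, e, mul_zero])
    by_cases h1 : (A : M2) 0 0 = 1
    · refine ⟨-(A : M2) 0 1, Or.inr ?_⟩
      convert goodMat_one (F := F)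
      apply Units.ext
      rw [Units.val_mul, Units.val_mul, glD_val', toG_val, mat_uM, Units.val_one, Units.val_inv_eq_inv_val, hd]
      ext i j
      fin_cases i <;> fin_cases j <;> simp [Matrix.mul_apply, Matrix.vecMul, dotProduct, Fin.sum_univ_two, hc, h1, he]
    · refine ⟨(1 - (A : M2) 0 1) / (A : M2) 0 0, Or.inr (goodMat_of ?_ ?_ (Or.inr ?_))⟩
      · exact val_det_glD' _ _ _ (by rw [dl_mul_toG, one_mul, inv_mul_cancel])
      · rw [Units.val_mul, Units.val_mul, glD_val', toG_val, mat_uM, Units.val_inv_eq_inv_val, hd,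
          Matrix.trace_fin_two]
        simp [Matrix.mul_apply, Matrix.vecMul, dotProduct, Fin.sum_univ_two, hc]
        intro e
        apply h1
        field_simp at e
        have : ((A : M2) 0 0 - 1) * ((A : M2) 0 0 - 1) = 0 := by linear_combination e
        exact sub_eq_zero.1 (mul_self_eq_zero.1 this)
      · rw [Units.val_mul, Units.val_mul, glD_val', toG_val, mat_uM]
        simp [Matrix.mul_apply, Matrix.vecMul, dotProduct, Fin.sum_univ_two]
        field_simp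
        simp
  · refine ⟨(3 - (A : M2) 0 0 - (dl A : F)⁻¹ * (A : M2) 1 1) / (A : M2) 1 0,
      Or.inl (goodMat_of ?_ ?_ (Or.inl ?_))⟩
    · exact val_det_glD' _ _ _ (by rw [dl_toG_mul, one_mul, inv_mul_cancel])
    · rw [Units.val_mul, Units.val_mul, glD_val', toG_val, mat_uM, Matrix.trace_fin_two]
      simp [Matrix.mul_apply, Matrix.vecMul, dotProduct, Fin.sum_univ_two, div_mul_cancel₀ _ hc]
      intro e
      exact three_ne_two (by linear_combination e)
    · rw [Units.val_mul, Units.val_mul, glD_val', toG_val, mat_uM]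
      simp [Matrix.mul_apply, Matrix.vecMul, dotProduct, Fin.sum_univ_two, hc]

theorem diag_inv (A : GL2F) (hb : (A : M2) 0 1 = 0) (hc : (A : M2) 1 0 = 0) :
    ∃ a b : Fˣ, glD a b * A = 1 := by
  have hd := dl_val A
  rw [hb, zero_mul, sub_zero] at hd
  have ha : (A : M2) 0 0 ≠ 0 := fun e => (dl A).ne_zero (by rw [hd, e, zero_mul])
  have he : (A : M2) 1 1 ≠ 0 := fun e => (dl A).ne_zero (by rw [hd, e, mul_zero])
  refine ⟨(Units.mk0 _ ha)⁻¹, (Units.mk0 _ he)⁻¹, ?_⟩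
  apply Units.ext
  rw [Units.val_mul, glD_val', Units.val_one]
  ext i j
  fin_cases i <;> fin_cases j <;> simp [Matrix.mul_apply, Matrix.vecMul, dotProduct, Fin.sum_univ_two, hb, hc, ha, he]

theorem onetwenty_choice (A : GL2F) : ∃ a b : Fˣ, ∃ z : F,
    GoodMat (glD a b * (toG (uM z) * A)) ∨ GoodMat (glD a b * (A * toG (lM z))) := by
  by_cases hc : (A : M2) 1 0 = 0
  · by_cases hb : (A : M2) 0 1 = 0
    · obtain ⟨a, b, e⟩ := diag_inv A hb hc
      refine ⟨a, b, 0, Or.inl ?_⟩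
      have h0 : toG (uM (0 : F)) = 1 := by
        apply Units.ext; rw [toG_val, mat_uM, Units.val_one]
        ext i j; fin_cases i <;> fin_cases j <;> simp
      rw [h0, one_mul, e]; exact goodMat_one
    · refine ⟨1, (dl A)⁻¹, (3 - (A : M2) 0 0 - (dl A : F)⁻¹ * (A : M2) 1 1) / (A : M2) 0 1,
        Or.inr (goodMat_of ?_ ?_ (Or.inr ?_))⟩
      · exact val_det_glD' _ _ _ (by rw [dl_mul_toG, one_mul, inv_mul_cancel])
      · rw [Units.val_mul, Units.val_mul, glD_val', toG_val, mat_lM, Matrix.trace_fin_two]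
        simp [Matrix.mul_apply, Matrix.vecMul, dotProduct, Fin.sum_univ_two, mul_div_cancel₀ _ hb]
        intro e
        exact three_ne_two (by linear_combination e)
      · rw [Units.val_mul, Units.val_mul, glD_val', toG_val, mat_lM]
        simp [Matrix.mul_apply, Matrix.vecMul, dotProduct, Fin.sum_univ_two, hb]
  · refine ⟨1, (dl A)⁻¹, (3 - (A : M2) 0 0 - (dl A : F)⁻¹ * (A : M2) 1 1) / (A : M2) 1 0,
      Or.inl (goodMat_of ?_ ?_ (Or.inl ?_))⟩
    · exact val_det_glD' _ _ _ (by rw [dl_toG_mul, one_mul, inv_mul_cancel])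
    · rw [Units.val_mul, Units.val_mul, glD_val', toG_val, mat_uM, Matrix.trace_fin_two]
      simp [Matrix.mul_apply, Matrix.vecMul, dotProduct, Fin.sum_univ_two, div_mul_cancel₀ _ hc]
      intro e
      exact three_ne_two (by linear_combination e)
    · rw [Units.val_mul, Units.val_mul, glD_val', toG_val, mat_uM]
      simp [Matrix.mul_apply, Matrix.vecMul, dotProduct, Fin.sum_univ_two, hc]

theorem exists_not_sq_one (h3 : 3 ≤ Fintype.card F) (h2 : (2 : F) = 0) :
    ∃ δ : Fˣ, (δ : F) ≠ (δ : F)⁻¹ := by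
  classical
  obtain ⟨z, hz⟩ : ∃ z : F, z ∉ ({0, 1} : Finset F) := by
    by_contra hcon
    push Not at hcon
    have := Finset.card_le_card (fun z (_ : z ∈ Finset.univ) => hcon z)
    have h' : ({0, 1} : Finset F).card ≤ 2 := Finset.card_le_two
    rw [Finset.card_univ] at this
    omega
  simp at hz
  refine ⟨Units.mk0 z hz.1, fun e => hz.2 ?_⟩
  rw [Units.val_mk0] at e
  have : z * z = 1 := by nth_rw 2 [e]; exact mul_inv_cancel₀ hz.1
  have : (z - 1) * (z - 1) = 0 := by linear_combination this + (1 - z) * h2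
  exact sub_eq_zero.1 (mul_self_eq_zero.1 this)

theorem oneeighty_choice (h3 : 3 ≤ Fintype.card F) (A : GL2F) : ∃ a b : Fˣ, ∃ X : SL2F,
    GoodMat (glD a b * (toG X * A * (toG X)⁻¹)) := by
  by_cases hoff : (A : M2) 0 1 = 0 ∧ (A : M2) 1 0 = 0
  · obtain ⟨a, b, e⟩ := diag_inv A hoff.1 hoff.2
    refine ⟨a, b, 1, ?_⟩
    rw [show toG (1 : SL2F) = 1 from map_one _, one_mul, inv_one, mul_one, e]
    exact goodMat_one
  -- a conjugate with a non-zero lower left entry
  obtain ⟨X₀, hX₀⟩ : ∃ X₀ : SL2F, ((toG X₀ * A * (toG X₀)⁻¹ : GL2F) : M2) 1 0 ≠ 0 := by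
    by_cases hc : (A : M2) 1 0 = 0
    · refine ⟨wM, ?_⟩
      rw [show (toG (wM : SL2F))⁻¹ = toG wM⁻¹ from (map_inv _ _).symm, Units.val_mul, Units.val_mul, toG_val,
        toG_val, mat_wM, mat_wM_inv]
      simp [Matrix.mul_apply, Matrix.vecMul, dotProduct, Fin.sum_univ_two, hc]
      exact fun e => hoff ⟨e, hc⟩
    · exact ⟨1, by rwa [show toG (1 : SL2F) = 1 from map_one _, one_mul, inv_one, mul_one]⟩
  set M := toG X₀ * A * (toG X₀)⁻¹ with hM
  have hform : ∀ z : F, ∃ X : SL2F, toG X * A * (toG X)⁻¹ = toG (uM z) * M * toG (uM (-z)) := fun z => by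
    refine ⟨uM z * X₀, ?_⟩
    have e : toG (uM (-z)) = (toG (uM z : SL2F))⁻¹ := by
      refine eq_inv_of_mul_eq_one_right (Units.ext ?_)
      rw [Units.val_mul, toG_val, toG_val, mat_uM, mat_uM, Units.val_one]
      ext i j
      fin_cases i <;> fin_cases j <;> simp [Matrix.mul_apply, Matrix.vecMul, dotProduct, Fin.sum_univ_two]
    rw [hM, show toG (uM z * X₀) = toG (uM z) * toG X₀ from map_mul _ _ _, e]; group
  have hdM : ∀ z : F, dl (toG (uM z) * M * toG (uM (-z))) = dl A := fun z => by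
    rw [dl_mul_toG, dl_toG_mul, hM, map_mul, map_mul, dl_toG, map_inv, dl_toG, inv_one, mul_one, one_mul]
  have hval : ∀ (a b : Fˣ) (z : F), ((glD a b * (toG (uM z) * M * toG (uM (-z))) : GL2F) : M2).trace =
      (a : F) * (M : M2) 0 0 + b * (M : M2) 1 1 + z * (M : M2) 1 0 * (a - b) ∧
      ((glD a b * (toG (uM z) * M * toG (uM (-z))) : GL2F) : M2) 1 0 = b * (M : M2) 1 0 := fun a b z => by
    rw [Units.val_mul, Units.val_mul, Units.val_mul, glD_val', toG_val, toG_val, mat_uM, mat_uM,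
      Matrix.trace_fin_two]
    constructor <;> simp [Matrix.mul_apply, Matrix.vecMul, dotProduct, Fin.sum_univ_two]
    ring
  have finish : ∀ (a b : Fˣ) (z : F), a * b * dl A = 1 →
      (a : F) * (M : M2) 0 0 + b * (M : M2) 1 1 + z * (M : M2) 1 0 * (a - b) ≠ 2 →
      ∃ a b : Fˣ, ∃ X : SL2F, GoodMat (glD a b * (toG X * A * (toG X)⁻¹)) := fun a b z hab htr => by
    obtain ⟨X, hX⟩ := hform z
    refine ⟨a, b, X, hX ▸ goodMat_of (val_det_glD' _ _ _ (by rw [hdM, hab])) ?_ (Or.inl ?_)⟩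
    · rw [(hval a b z).1]; exact htr
    · rw [(hval a b z).2]; exact mul_ne_zero b.ne_zero hX₀
  have arb : ∀ a b : Fˣ, a * b * dl A = 1 → (a : F) ≠ b →
      ∃ a b : Fˣ, ∃ X : SL2F, GoodMat (glD a b * (toG X * A * (toG X)⁻¹)) := fun a b hab hne => by
    have h0 : (M : M2) 1 0 * ((a : F) - b) ≠ 0 := mul_ne_zero hX₀ (sub_ne_zero.2 hne)
    refine finish a b ((3 - a * (M : M2) 0 0 - b * (M : M2) 1 1) / ((M : M2) 1 0 * (a - b))) hab ?_
    rw [mul_assoc, div_mul_cancel₀ _ h0]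
    intro e
    exact three_ne_two (by linear_combination e)
  by_cases hA : dl A = 1
  · by_cases h2 : (2 : F) = 0
    · obtain ⟨δ, hδ⟩ := exists_not_sq_one h3 h2
      exact arb δ δ⁻¹ (by rw [hA, mul_inv_cancel, mul_one]) (by rwa [Units.val_inv_eq_inv_val])
    · by_cases htr : (M : M2) 0 0 + (M : M2) 1 1 = 2
      · refine finish (-1) (-1) 0 (by rw [hA]; simp) ?_
        simp
        intro e
        have h4 : (2 : F) * 2 = 0 := by linear_combination -htr - e
        exact h2 (mul_self_eq_zero.1 h4)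
      · exact finish 1 1 0 (by rw [hA]; simp) (by simpa using htr)
  · refine arb 1 (dl A)⁻¹ (by rw [one_mul, inv_mul_cancel]) fun e => hA ?_
    exact (inv_eq_one.1 (Units.ext (by simpa using e.symm)))

/-! ### The products -/

variable {t d : F} (h : EllipticPair t d)

/-- A product of two elements of the class. -/
def Good (g : GG) : Prop := ∃ a b : GG, CE h a ∧ CE h b ∧ g = a * b

theorem Good.conj {g k : GG} (hk : k ∈ chevG2.group F) (c : Good h g) : Good h (k * g * k⁻¹) := by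
  obtain ⟨a, b, ha, hb, rfl⟩ := c
  exact ⟨k * a * k⁻¹, k * b * k⁻¹, ha.conj h hk, hb.conj h hk, by group⟩

theorem Good.of_conj {g k : GG} (hk : k ∈ chevG2.group F) (c : Good h (k * g * k⁻¹)) : Good h g := by
  simpa [mul_assoc] using c.conj h (inv_mem hk)

theorem good_of_decomp {n : GG} {D A : GL2F} (hn : Decomp n D) (hA : GoodMat (D * A)) {u : GG}
    (hu : u ∈ Urad F) : Good h (n * (Lam A * u)) := by
  obtain ⟨u₁, hu₁, v, hv, w, hw, e⟩ := hn
  refine Good.of_conj h (Urad_le_group hu₁) ?_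
  have he : u₁ * (n * (Lam A * u)) * u₁⁻¹ = v * Lam (D * A) * ((Lam A)⁻¹ * w * Lam A * u * u₁⁻¹) := by
    rw [show u₁ * (n * (Lam A * u)) * u₁⁻¹ = (u₁ * n) * (Lam A * u * u₁⁻¹) by group, e, map_mul]; group
  rw [he]
  exact exists_CE_mul h hA (mul_mem (mul_mem (Lam_conj' A hw) hu) (inv_mem hu₁)) hv

theorem good_shift {n k k' : GG} {P Q A : GL2F} (hk : k ∈ chevG2.group F) (hnk : n⁻¹ * k * n = k')
    {u₁ u₂ u : GG} (hu₁ : u₁ ∈ Urad F) (hu₂ : u₂ ∈ Urad F) (hu : u ∈ Urad F) (hk' : k' = Lam P * u₁)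
    (hki : k⁻¹ = Lam Q * u₂) (hg : ∀ w ∈ Urad F, Good h (n * (Lam (P * A * Q) * w))) :
    Good h (n * (Lam A * u)) := by
  refine Good.of_conj h hk ?_
  have e : k * (n * (Lam A * u)) * k⁻¹ =
      n * (Lam (P * A * Q) * ((Lam Q)⁻¹ * ((Lam A)⁻¹ * u₁ * Lam A * u) * Lam Q * u₂)) := by
    rw [show k * (n * (Lam A * u)) * k⁻¹ = n * (n⁻¹ * k * n) * (Lam A * u) * k⁻¹ by group, hnk, hk', hki,
      map_mul, map_mul]
    group
  rw [e]
  exact hg _ (mul_mem (Lam_conj' Q (mul_mem (Lam_conj' A hu₁) hu)) hu₂)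

theorem x_mem_group' (r : ℕ) (z : F) : (x r z : GG) ∈ chevG2.group F := S2.ok.xG_mem_group r z

theorem Lam_uM (z : F) : (Lam (toG (uM z)) : GG) = x 7 z := by rw [Lam_toG, f1_uM]
theorem Lam_lM (z : F) : (Lam (toG (lM z)) : GG) = x 4 z := by rw [Lam_toG, f1_lM]

theorem good_left {n : GG} {L : List (Fin chevG2.rank)} (hn : Act S2.ok n (S2.wpL L)) (e : wv L 7 = 8)
    (z : F) {A : GL2F} {u : GG} (hu : u ∈ Urad F)
    (hg : ∀ w ∈ Urad F, Good h (n * (Lam (toG (uM z) * A) * w))) : Good h (n * (Lam A * u)) := by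
  obtain ⟨c, -, ec⟩ := act_conj hn (by norm_num : 7 < 12) e
  refine good_shift h (k := x 8 (c * z)) (k' := x 7 z) (P := toG (uM z)) (Q := 1) (u₁ := 1) (u₂ := x 8 (-(c * z)))
    (x_mem_group' _ _) ?_ (one_mem _) (x_mem_Urad (by simp [radRoots]) _) hu ?_ ?_ (fun w hw => ?_)
  · rw [← ec]; group
  · rw [Lam_uM, mul_one]
  · rw [x_inv', map_one, one_mul]
  · rw [mul_one]; exact hg w hw

theorem good_right {n : GG} {L : List (Fin chevG2.rank)} (hn : Act S2.ok n (S2.wpL L)) {r s : ℕ}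
    (hs : s ∈ radRoots) (e : wv L s = r) {Z : F → SL2F} (hZ : ∀ z, (Lam (toG (Z z)) : GG) = x r z)
    (z : F) {A : GL2F} {u : GG} (hu : u ∈ Urad F)
    (hg : ∀ w ∈ Urad F, Good h (n * (Lam (A * toG (Z z)) * w))) : Good h (n * (Lam A * u)) := by
  obtain ⟨c, hc⟩ := act_conj' hn (radRoots_lt s hs).1 e (-z)
  refine good_shift h (k := x r (-z)) (k' := x s c) (P := 1) (Q := toG (Z z)) (u₁ := x s c) (u₂ := 1)
    (x_mem_group' _ _) hc (x_mem_Urad hs _) (one_mem _) hu ?_ ?_ (fun w hw => ?_)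
  · rw [map_one, one_mul]
  · rw [x_inv', neg_neg, hZ, mul_one]
  · rw [one_mul]; exact hg w hw

theorem wv_cases : wv [i1] 7 = 8 ∧ wv [i1] 8 = 7 ∧ wv ([i1] ++ W2) 7 = 8 ∧ wv ([i1] ++ W2) 9 = 4 := by
  decide +kernel

theorem onetwenty_act : Act S2.ok (fb wM * f2 wM : GG) (S2.wpL ([i1] ++ W2)) := by
  rw [wpL_append]; exact S2.act_mul fb_wM_act f2_wM_act

theorem good_sixty {A : GL2F} {u : GG} (hu : u ∈ Urad F) : Good h (fb wM * (Lam A * u)) := by
  obtain ⟨σ, z, hz | hz⟩ := sixty_choice A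
  · exact good_left h fb_wM_act wv_cases.1 z hu fun w hw => good_of_decomp h (decomp_sixty σ) hz hw
  · exact good_right h fb_wM_act (s := 8) (by simp [radRoots]) wv_cases.2.1 (Z := uM) Lam_uM z hu
      fun w hw => good_of_decomp h (decomp_sixty σ) hz hw

theorem good_onetwenty {A : GL2F} {u : GG} (hu : u ∈ Urad F) : Good h (fb wM * f2 wM * (Lam A * u)) := by
  obtain ⟨a, b, z, hz | hz⟩ := onetwenty_choice A
  · exact good_left h onetwenty_act wv_cases.2.2.1 z hu fun w hw =>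
      good_of_decomp h (decomp_onetwenty a b) hz hw
  · exact good_right h onetwenty_act (s := 9) (by simp [radRoots]) wv_cases.2.2.2 (Z := lM) Lam_lM z hu
      fun w hw => good_of_decomp h (decomp_onetwenty a b) hz hw

theorem good_oneeighty (h3 : 3 ≤ Fintype.card F) {A : GL2F} {u : GG} (hu : u ∈ Urad F) :
    Good h (f2 wM * (Lam A * u)) := by
  obtain ⟨a, b, X, hX⟩ := oneeighty_choice h3 A
  refine good_shift h (k := f1 X) (k' := f1 X) (P := toG X) (Q := (toG X)⁻¹) (u₁ := 1) (u₂ := 1)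
    (f1_mem_group X) ?_ (one_mem _) (one_mem _) hu ?_ ?_
    fun w hw => good_of_decomp h (decomp_oneeighty a b) hX hw
  · rw [mul_assoc, f1_f2, inv_mul_cancel_left]
  · rw [Lam_toG, mul_one]
  · rw [map_inv, Lam_toG, mul_one]

/-! ### The stabiliser of the highest root subgroup -/

/-- The normaliser of the highest root subgroup. -/
noncomputable def P11 (F : Type*) [Field F] : Subgroup (GL chevG2.Idx F) :=
  Subgroup.normalizer (Set.range (x 11 : F → GL chevG2.Idx F))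

theorem mem_P11 {g : GG} {c : F} (hc : c ≠ 0) (hg : ∀ t : F, g * x 11 t * g⁻¹ = x 11 (c * t)) :
    g ∈ P11 F := by
  refine Subgroup.mem_set_normalizer_iff.2 fun y => ⟨?_, ?_⟩
  · rintro ⟨s, rfl⟩; exact ⟨c * s, (hg s).symm⟩
  · rintro ⟨s, hs⟩
    refine ⟨s / c, ?_⟩
    have h2 : g * x 11 (s / c) * g⁻¹ = g * y * g⁻¹ := by rw [hg, mul_div_cancel₀ _ hc, hs]
    exact mul_left_cancel (mul_right_cancel h2)

theorem InP.mem_P11 {g : GG} (hg : InP g) : g ∈ P11 F := by
  obtain ⟨A, u, hu, rfl⟩ := hg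
  refine mul_mem (GTwoCover.mem_P11 (dl A).ne_zero (Lam_x11 A)) ?_
  revert u
  show Urad F ≤ P11 F
  refine (Subgroup.closure_le _).2 ?_
  rintro g ⟨r, hr, s, rfl⟩
  refine GTwoCover.mem_P11 one_ne_zero fun w => ?_
  rw [one_mul, mul_inv_eq_iff_eq_mul]
  simp only [radRoots, List.mem_cons, List.not_mem_nil, or_false] at hr
  rcases hr with rfl | rfl | rfl | rfl | rfl
  · exact (com (r := 6) (s := 11) (by simp) _ _).symm
  · exact (com (r := 8) (s := 11) (by simp) _ _).symm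
  · exact (com (r := 9) (s := 11) (by simp) _ _).symm
  · exact (com (r := 10) (s := 11) (by simp) _ _).symm
  · rw [x_add, x_add, add_comm]

theorem fb_wM_not_mem : (fb wM : GG) ∉ P11 F := by
  intro hmem
  obtain ⟨c, hc, ec⟩ := act_conj (fb_wM_act (F := F)) (by norm_num : 11 < 12) wv_fb.1
  obtain ⟨s, hs⟩ := (Subgroup.mem_set_normalizer_iff.1 hmem (x 11 (1 : F))).1 ⟨1, rfl⟩
  rw [ec, mul_one, (GTwoInv.x_eq_mk c).2.2.2.2.1, (GTwoInv.x_eq_mk s).2.2.2.2.2] at hs
  exact hc (GTwoInv.mk_inj hs).2.2.2.2.1.symm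

theorem word_cases : ∀ L ∈ words, wv L 11 = 11 ∨
    ∃ a ∈ [[], [i0]], ∃ c ∈ [[], [i0]], ∃ s ∈ [[i1], [i1] ++ W2, W2],
      (List.range 12).map (wv L) = (List.range 12).map (wv (a ++ s ++ c)) := by decide +kernel

theorem exists_rep {a : List (Fin chevG2.rank)} (ha : a ∈ [[], [i0]]) :
    ∃ n : GG, InP n ∧ n ∈ chevG2.group F ∧ n ∈ chevG2.monomialSubgroup F ∧ Act S2.ok n (S2.wpL a) := by
  simp only [List.mem_cons, List.not_mem_nil, or_false] at ha
  rcases ha with rfl | rfl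
  · exact ⟨1, InP.of_rad (one_mem _), one_mem _, one_mem _, by simpa [Struct.wpL] using S2.act_one (F := F)⟩
  · exact ⟨f1 wM, InP.of_f1 _, f1_mem_group _, f1_wM (F := F) ▸ S2.nL_mem_mono [i0], f1_wM_act⟩

theorem exists_mid (h3 : 3 ≤ Fintype.card F) {s : List (Fin chevG2.rank)}
    (hs : s ∈ [[i1], [i1] ++ W2, W2]) :
    ∃ n : GG, n ∈ chevG2.group F ∧ n ∈ chevG2.monomialSubgroup F ∧ Act S2.ok n (S2.wpL s) ∧
      ∀ q : GG, InP q → Good h (n * q) := by
  have hb : (fb wM : GG) ∈ chevG2.monomialSubgroup F := fb_wM (F := F) ▸ S2.nL_mem_mono [i1]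
  simp only [List.mem_cons, List.not_mem_nil, or_false] at hs
  rcases hs with rfl | rfl | rfl
  · refine ⟨fb wM, fb_mem_group _, hb, fb_wM_act, ?_⟩
    rintro q ⟨A, u, hu, rfl⟩; exact good_sixty h hu
  · refine ⟨fb wM * f2 wM, mul_mem (fb_mem_group _) (f2_mem_group _), mul_mem hb f2_wM_mono, onetwenty_act, ?_⟩
    rintro q ⟨A, u, hu, rfl⟩; exact good_onetwenty h hu
  · refine ⟨f2 wM, f2_mem_group _, f2_wM_mono, f2_wM_act, ?_⟩
    rintro q ⟨A, u, hu, rfl⟩; exact good_oneeighty h h3 hu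

theorem good_of_not_mem (h3 : 3 ≤ Fintype.card F) {g : GG} (hg : g ∈ chevG2.group F) (hP : g ∉ P11 F) :
    Good h g := by
  obtain ⟨b, hb, n, hn, L₀, hact, v, hv, rfl⟩ := S2.normal_form okNeg_G2 hg
  obtain ⟨L, hL, eL⟩ := exists_word_rep L₀
  rw [eL] at hact hv
  have hbP : InP b := InP.of_borel hb
  have hvP : InP v := InP.of_pos (S2.UPsi_le _ hv)
  rcases word_cases L hL with h11 | ⟨a, ha, c, hc, s, hs, hmap⟩
  · obtain ⟨k, hk, ek⟩ := act_conj hact (by norm_num : 11 < 12) h11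
    exact absurd (mul_mem (mul_mem hbP.mem_P11 (mem_P11 hk ek)) hvP.mem_P11) hP
  rw [GTwoOdd.wpL_ext hmap, wpL_append, wpL_append] at hact
  obtain ⟨na, hnaP, hnaG, hnam, hnaa⟩ := exists_rep (F := F) ha
  obtain ⟨nc, hncP, hncG, hncm, hnca⟩ := exists_rep (F := F) hc
  obtain ⟨ns, hnsG, hnsm, hnsa, hgood⟩ := exists_mid h h3 hs
  set M := na * ns * nc with hM
  have hMm : M ∈ chevG2.monomialSubgroup F := mul_mem (mul_mem hnam hnsm) hncm
  obtain ⟨L1, h6, hiff⟩ := S2.exists_act (mul_mem hn (inv_mem hMm))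
  have h7 := S2.act_mul h6 (S2.act_mul (S2.act_mul hnaa hnsa) hnca)
  rw [← hM, inv_mul_cancel_right] at h7
  have h8 : InP (n * M⁻¹) := InP.of_diag (hiff.1 (mul_eq_right.1 (S2.act_unique h7 hact)))
  have key := hgood (nc * v * (b * (n * M⁻¹)) * na) (((hncP.mul hvP).mul (hbP.mul h8)).mul hnaP)
  refine Good.of_conj h (k := (b * (n * M⁻¹) * na)⁻¹) (inv_mem ?_) ?_
  · exact mul_mem (mul_mem (S2.borel_le_group hb) (S2.diag_le_group
      (hiff.1 (mul_eq_right.1 (S2.act_unique h7 hact))))) hnaG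
  · convert key using 1
    rw [hM]; group

theorem exists_a (h3 : 3 ≤ Fintype.card F) : ∃ a : F, a ≠ 0 ∧ a ≠ 1 := by
  classical
  by_contra hcon
  push Not at hcon
  have hsub : (Finset.univ : Finset F) ⊆ {0, 1} := fun z _ => by
    by_cases hz : z = 0
    · simp [hz]
    · simp [hcon z hz]
  have := Finset.card_le_card hsub
  have h' : ({0, 1} : Finset F).card ≤ 2 := Finset.card_le_two
  rw [Finset.card_univ] at this
  omega

theorem good_of_ne_one (h3 : 3 ≤ Fintype.card F) {g : GG} (hg : g ∈ chevG2.group F) (h1 : g ≠ 1) :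
    Good h g := by
  haveI := (Cfsg.Agent.S1055.result (exists_a h3)).1
  set P : Subgroup ↥(chevG2.group F) := (P11 F).subgroupOf (chevG2.group F)
  have hne : P ≠ ⊤ := fun e => fb_wM_not_mem (F := F)
    (show (⟨fb wM, fb_mem_group _⟩ : ↥(chevG2.group F)) ∈ P from e ▸ Subgroup.mem_top _)
  have hnot : (⟨g, hg⟩ : ↥(chevG2.group F)) ∉ P.normalCore := by
    rcases (Subgroup.normalCore_normal P).eq_bot_or_eq_top with e | e
    · rw [e, Subgroup.mem_bot]; exact fun e' => h1 (congrArg Subtype.val e')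
    · exact absurd (top_le_iff.1 (e ▸ Subgroup.normalCore_le P)) hne
  change ¬ ∀ k, k * (⟨g, hg⟩ : ↥(chevG2.group F)) * k⁻¹ ∈ P at hnot
  push Not at hnot
  obtain ⟨k, hk⟩ := hnot
  exact Good.of_conj h k.2 (good_of_not_mem h h3 (mul_mem (mul_mem k.2 hg) (inv_mem k.2)) hk)

/-! ### The conclusion -/

theorem main (p : ℕ) [Fact p.Prime] [CharP F p] (h3 : 3 ≤ Fintype.card F) :
    ∃ e : ↥(chevG2.group F), ¬ p ∣ orderOf e ∧ ∀ g : ↥(chevG2.group F), g ≠ 1 →
      ∃ u v : ↥(chevG2.group F), g = (u * e * u⁻¹) * (v * e * v⁻¹) := by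
  obtain ⟨t, d, h⟩ := exists_ellipticPair h3
  refine ⟨⟨ell h, ell_mem h⟩, ?_, ?_⟩
  · rw [← Subgroup.orderOf_coe]
    set q := Fintype.card F with hq
    have hA : (ell h) ^ ((q + 1) * (q - 1)) = 1 := by
      rw [ell, ← map_pow, ← map_one Lam]
      congr 1
      apply Units.ext
      rw [Units.val_pow_eq_pow_val, pow_mul, Units.val_one]
      show (comp2 t d ^ (q + 1)) ^ (q - 1) = 1
      rw [hq, pow_card_succ h (comp2_trace t d) (comp2_det t d), smul_pow, one_pow,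
        FiniteField.pow_card_sub_one_eq_one d h.hd0, one_smul]
    intro hp
    have h2 : p ∣ (q + 1) * (q - 1) := hp.trans (orderOf_dvd_of_pow_eq_one hA)
    obtain ⟨n, hpp, hn⟩ := FiniteField.card F p
    have hpq : p ∣ q := by
      rw [hq, hn]; exact dvd_pow_self p n.pos.ne'
    have h1q : 1 ≤ q := by omega
    rcases (Nat.Prime.dvd_mul hpp).1 h2 with h' | h'
    · exact hpp.not_dvd_one ((Nat.dvd_add_right hpq).1 h')
    · have := Nat.dvd_sub hpq h'
      rw [show q - (q - 1) = 1 by omega] at this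
      exact hpp.not_dvd_one this
  · intro g hg
    obtain ⟨a, b, ⟨k, hk, rfl⟩, ⟨m, hm, rfl⟩, e⟩ :=
      good_of_ne_one h h3 g.2 (fun e => hg (Subtype.ext e))
    exact ⟨⟨k, hk⟩, ⟨m, hm⟩, Subtype.ext e⟩

end Cfsg.Lib.GTwoCover
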