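import Cfsg.Agent.Chev.GTwoOdd.Cent

/-! The unipotent radical of the long-root parabolic subgroup of `G₂` and its Levi complement `GL₂`. -/

set_option autoImplicit false
set_option linter.unusedSectionVars false

open Cfsg.Lie

namespace Cfsg.Lib.GTwoCover

open Cfsg.Lib.Chev
open Cfsg.Lib.GTwoInv (S2 half_eq x x_add x_zero comm commutes mk mk_zero mk_inj exists_mk mk_mem i0 i1
  words wv wv_lt exists_word_rep)
open Cfsg.Lib.GTwoOdd (T T_conj T_mem_group exists_T cA cB coeff_vals f1 fb f2 f1_uM f1_lM fb_uM fb_lM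
  f2_uM f2_lM f1_f2 dconj mat_dconj tau tau_apply tau_f1 tau_f2 tau_conj sA mat_sA sA_mul sA_toG dl dl_val dl_toG
  glD dl_glD sA_glD dM mat_dM f1_dM f2_dM fb_dM toG toG_val f1_commute_x W2 f1_wM fb_wM f2_wM_act f2_wM_mono
  act_eq Phi_mem Phi_j1 Phi_j2 j1 j2)

variable {F : Type*} [Field F]

local notation "SL2F" => Matrix.SpecialLinearGroup (Fin 2) F
local notation "GL2F" => GL (Fin 2) F
local notation "M2" => Matrix (Fin 2) (Fin 2) F
local notation "GG" => GL chevG2.Idx F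

theorem x_inv' (r : ℕ) (t : F) : (x r t : GG)⁻¹ = x r (-t) :=
  inv_eq_of_mul_eq_one_right (by rw [x_add, add_neg_cancel, x_zero])

/-! ### The radical -/

/-- The roots of the radical. -/
def radRoots : List ℕ := [6, 8, 9, 10, 11]

/-- The radical. -/
noncomputable def Urad (F : Type*) [Field F] : Subgroup (GL chevG2.Idx F) :=
  Subgroup.closure {g | ∃ r ∈ radRoots, ∃ t : F, g = x r t}

theorem x_mem_Urad {r : ℕ} (hr : r ∈ radRoots) (t : F) : (x r t : GG) ∈ Urad F :=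
  Subgroup.subset_closure ⟨r, hr, t, rfl⟩

theorem radRoots_lt : ∀ r ∈ radRoots, r < 12 ∧ 6 ≤ r := by decide

theorem Urad_le_pos : Urad F ≤ chevG2.posUnipotent F := by
  refine (Subgroup.closure_le _).2 ?_
  rintro g ⟨r, hr, t, rfl⟩
  exact S2.xG_mem_U (half_eq.1.symm ▸ (radRoots_lt r hr).2) (half_eq.2.symm ▸ (radRoots_lt r hr).1) t

theorem pos_le_group : chevG2.posUnipotent F ≤ chevG2.group F :=
  fun _ hu => S2.borel_le_group (S2.B_le_of hu)

theorem Urad_le_group : Urad F ≤ chevG2.group F := Urad_le_pos.trans pos_le_group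

theorem terms610' : chevG2.commTerms 6 10 = [(11, (1, (1, 1)))] := by decide +kernel
theorem terms89' : chevG2.commTerms 8 9 = [(11, (3, (1, 1)))] := by decide +kernel

theorem g610 (t u : F) : (x 10 u * x 6 t : GG) = x 6 t * x 10 u * x 11 (-(t * u)) := by
  rw [comm (by norm_num) (by norm_num) (by norm_num) (by decide +kernel), ChevalleyDatum.commWord, terms610']
  simp [Ok.wG, x]

theorem g89 (t u : F) : (x 9 u * x 8 t : GG) = x 8 t * x 9 u * x 11 (-(3 * t * u)) := by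
  rw [comm (by norm_num) (by norm_num) (by norm_num) (by decide +kernel), ChevalleyDatum.commWord, terms89']
  simp [Ok.wG, x, mul_assoc]

theorem mk_zero7 (A C D E G : F) : mk A 0 C D E G = x 6 A * x 8 C * x 9 D * x 10 E * x 11 G := by
  simp [mk, x_zero]

theorem comm_pairs : ∀ p ∈ [(6, 11), (6, 9), (6, 8), (8, 11), (8, 10), (9, 11), (9, 10), (10, 11)],
    p.1 < 12 ∧ p.2 < 12 ∧ p.2 ≠ p.1 ∧ p.2 ≠ chevG2.neg p.1 ∧ chevG2.commTerms p.1 p.2 = [] := by
  decide +kernel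

theorem com {r s : ℕ} (h : (r, s) ∈ [(6, 11), (6, 9), (6, 8), (8, 11), (8, 10), (9, 11), (9, 10), (10, 11)])
    (t u : F) : (x s u * x r t : GG) = x r t * x s u := by
  obtain ⟨a, b, c, d, e⟩ := comm_pairs _ h
  exact commutes a b c d e t u

theorem mk7_mul_x6 (A C D E G a : F) :
    mk A 0 C D E G * x 6 a = mk (A + a) 0 C D E (-(a * E) + G) := by
  rw [mk_zero7, mk_zero7, mul_assoc _ (x 11 G) (x 6 a), com (r := 6) (s := 11) (by simp)]
  simp only [mul_assoc]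
  rw [← mul_assoc (x 10 E) (x 6 a), g610]
  simp only [mul_assoc]
  rw [← mul_assoc (x 9 D) (x 6 a), com (r := 6) (s := 9) (by simp)]
  simp only [mul_assoc]
  rw [← mul_assoc (x 8 C) (x 6 a), com (r := 6) (s := 8) (by simp)]
  simp only [mul_assoc]
  rw [← mul_assoc (x 6 A) (x 6 a), x_add, x_add]

theorem mk7_mul_x8 (A C D E G c : F) :
    mk A 0 C D E G * x 8 c = mk A 0 (C + c) D E (-(3 * c * D) + G) := by
  rw [mk_zero7, mk_zero7, mul_assoc _ (x 11 G) (x 8 c), com (r := 8) (s := 11) (by simp)]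
  simp only [mul_assoc]
  rw [← mul_assoc (x 10 E) (x 8 c), com (r := 8) (s := 10) (by simp)]
  simp only [mul_assoc]
  rw [← mul_assoc (x 9 D) (x 8 c), g89]
  simp only [mul_assoc]
  rw [← mul_assoc (x 8 C) (x 8 c), x_add, ← mul_assoc (x 11 _) (x 10 E),
    com (r := 10) (s := 11) (by simp)]
  simp only [mul_assoc, x_add]

theorem mk7_mul_x9 (A C D E G d : F) : mk A 0 C D E G * x 9 d = mk A 0 C (D + d) E G := by
  rw [mk_zero7, mk_zero7, mul_assoc _ (x 11 G) (x 9 d), com (r := 9) (s := 11) (by simp)]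
  simp only [mul_assoc]
  rw [← mul_assoc (x 10 E) (x 9 d), com (r := 9) (s := 10) (by simp)]
  simp only [mul_assoc]
  rw [← mul_assoc (x 9 D) (x 9 d), x_add]

theorem mk7_mul_x10 (A C D E G e : F) : mk A 0 C D E G * x 10 e = mk A 0 C D (E + e) G := by
  rw [mk_zero7, mk_zero7, mul_assoc _ (x 11 G) (x 10 e), com (r := 10) (s := 11) (by simp)]
  simp only [mul_assoc]
  rw [← mul_assoc (x 10 E) (x 10 e), x_add]

theorem mk7_mul_x11 (A C D E G f : F) : mk A 0 C D E G * x 11 f = mk A 0 C D E (G + f) := by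
  simp only [mk, mul_assoc, x_add]

theorem exists_mk7 {g : GG} (hg : g ∈ Urad F) : ∃ A C D E G : F, g = mk A 0 C D E G := by
  induction hg using Subgroup.closure_induction_right with
  | one => exact ⟨0, 0, 0, 0, 0, mk_zero.symm⟩
  | mul_right a _ y hy ih =>
    obtain ⟨r, hr, t, rfl⟩ := hy
    obtain ⟨A, C, D, E, G, rfl⟩ := ih
    simp only [radRoots, List.mem_cons, List.not_mem_nil, or_false] at hr
    rcases hr with rfl | rfl | rfl | rfl | rfl
    · exact ⟨_, _, _, _, _, mk7_mul_x6 A C D E G t⟩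
    · exact ⟨_, _, _, _, _, mk7_mul_x8 A C D E G t⟩
    · exact ⟨_, _, _, _, _, mk7_mul_x9 A C D E G t⟩
    · exact ⟨_, _, _, _, _, mk7_mul_x10 A C D E G t⟩
    · exact ⟨_, _, _, _, _, mk7_mul_x11 A C D E G t⟩
  | mul_inv_cancel a _ y hy ih =>
    obtain ⟨r, hr, t, rfl⟩ := hy
    obtain ⟨A, C, D, E, G, rfl⟩ := ih
    rw [x_inv']
    simp only [radRoots, List.mem_cons, List.not_mem_nil, or_false] at hr
    rcases hr with rfl | rfl | rfl | rfl | rfl
    · exact ⟨_, _, _, _, _, mk7_mul_x6 A C D E G (-t)⟩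
    · exact ⟨_, _, _, _, _, mk7_mul_x8 A C D E G (-t)⟩
    · exact ⟨_, _, _, _, _, mk7_mul_x9 A C D E G (-t)⟩
    · exact ⟨_, _, _, _, _, mk7_mul_x10 A C D E G (-t)⟩
    · exact ⟨_, _, _, _, _, mk7_mul_x11 A C D E G (-t)⟩

/-! ### The normaliser of the radical -/

/-- The normaliser of the radical. -/
noncomputable def NU (F : Type*) [Field F] : Subgroup (GL chevG2.Idx F) :=
  Subgroup.normalizer (Urad F : Set (GL chevG2.Idx F))

theorem mem_NU {g : GG} (h₁ : ∀ r ∈ radRoots, ∀ t : F, g * x r t * g⁻¹ ∈ Urad F)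
    (h₂ : ∀ r ∈ radRoots, ∀ t : F, g⁻¹ * x r t * g ∈ Urad F) : g ∈ NU F := by
  have key : ∀ k : GG, (∀ r ∈ radRoots, ∀ t : F, k * x r t * k⁻¹ ∈ Urad F) →
      ∀ u ∈ Urad F, k * u * k⁻¹ ∈ Urad F := fun k hk u hu => by
    have hle : Urad F ≤ (Urad F).comap (MulAut.conj k).toMonoidHom := by
      refine (Subgroup.closure_le _).2 ?_
      rintro y ⟨r, hr, t, rfl⟩
      exact hk r hr t
    exact hle hu
  refine Subgroup.mem_normalizer_iff.2 fun u => ⟨key g h₁ u, fun hu => ?_⟩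
  have := key g⁻¹ (by simpa using h₂) _ hu
  simpa [mul_assoc] using this

theorem terms_rad : ∀ s ∈ [4, 7], ∀ r ∈ radRoots, s < 12 ∧ r ≠ s ∧ r ≠ chevG2.neg s ∧
    ∀ q ∈ chevG2.commTerms s r, q.1 ∈ radRoots := by decide +kernel

theorem x_conj_rad {s r : ℕ} (hs : s ∈ [4, 7]) (hr : r ∈ radRoots) (u t : F) :
    (x s u)⁻¹ * x r t * x s u ∈ Urad F := by
  obtain ⟨a, b, c, d⟩ := terms_rad s hs r hr
  rw [mul_assoc, comm a (radRoots_lt r hr).1 b c, ← mul_assoc, ← mul_assoc, inv_mul_cancel, one_mul]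
  refine mul_mem (x_mem_Urad hr t) (list_prod_mem fun g hg => ?_)
  obtain ⟨q, hq, rfl⟩ := List.mem_map.1 hg
  obtain ⟨q', hq', rfl⟩ := List.mem_map.1 hq
  exact x_mem_Urad (d q' hq') _

theorem x_mem_NU {s : ℕ} (hs : s ∈ [4, 7]) (u : F) : (x s u : GG) ∈ NU F := by
  refine mem_NU (fun r hr t => ?_) fun r hr t => x_conj_rad hs hr u t
  have := x_conj_rad (s := s) hs hr (-u) t
  rwa [← x_inv', inv_inv] at this

theorem T_mem_NU (p : Fˣ × Fˣ) : (T p : GG) ∈ NU F := by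
  refine mem_NU (fun r hr t => ?_) fun r hr t => ?_
  · rw [T_conj (radRoots_lt r hr).1]; exact x_mem_Urad hr _
  · rw [← map_inv, ← inv_inv (T p), ← map_inv, T_conj (radRoots_lt r hr).1]; exact x_mem_Urad hr _

theorem f1_mem_group (X : SL2F) : f1 X ∈ chevG2.group F := Phi_j1 X ▸ (Subgroup.mem_inf.1 (Phi_mem (j1 X))).1

theorem f2_mem_group (X : SL2F) : f2 X ∈ chevG2.group F := Phi_j2 X ▸ (Subgroup.mem_inf.1 (Phi_mem (j2 X))).1

theorem fb_mem_group (X : SL2F) : fb X ∈ chevG2.group F := by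
  have : fb.range ≤ chevG2.group F := by
    rw [fb, ((S2.sl2Rel_simple (F := F) i1).exists_hom).choose_spec.2.2, Subgroup.closure_le]
    rintro g (⟨t, rfl⟩ | ⟨t, rfl⟩) <;> exact S2.ok.xG_mem_group _ _
  exact this ⟨X, rfl⟩

theorem f1_mem_NU (X : SL2F) : f1 X ∈ NU F := by
  have : f1.range ≤ NU F := by
    rw [f1, ((S2.sl2Rel_simple (F := F) i0).exists_hom).choose_spec.2.2, Subgroup.closure_le]
    rintro g (⟨t, rfl⟩ | ⟨t, rfl⟩) <;>
      simp only [GTwoOdd.simple0.1, GTwoOdd.simple0.2]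
    · exact x_mem_NU (by simp) t
    · exact x_mem_NU (by simp) t
  exact this ⟨X, rfl⟩

/-! ### The Levi complement -/

/-- The Levi complement as a homomorphism from `GL₂`. -/
noncomputable def Lam : GL2F →* GG :=
  MonoidHom.mk' (fun A => f1 (sA A) * tau (dl A)) fun A C => by
    rw [sA_mul, map_mul, map_mul, map_mul]
    calc f1 (sA A) * f1 (dconj (dl A) (sA C)) * (tau (dl A) * tau (dl C))
        = f1 (sA A) * (f1 (dconj (dl A) (sA C)) * tau (dl A)) * tau (dl C) := by simp only [mul_assoc]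
      _ = _ := by rw [← tau_f1]; simp only [mul_assoc]

theorem Lam_apply (A : GL2F) : Lam A = f1 (sA A) * tau (dl A) := rfl

theorem Lam_mem_group (A : GL2F) : Lam A ∈ chevG2.group F := mul_mem (f1_mem_group _) (T_mem_group _)

theorem Lam_mem_NU (A : GL2F) : Lam A ∈ NU F := mul_mem (f1_mem_NU _) (T_mem_NU _)

theorem Lam_conj (A : GL2F) {u : GG} (hu : u ∈ Urad F) : Lam A * u * (Lam A)⁻¹ ∈ Urad F :=
  (Subgroup.mem_normalizer_iff.1 (Lam_mem_NU A) u).1 hu

theorem Lam_conj' (A : GL2F) {u : GG} (hu : u ∈ Urad F) : (Lam A)⁻¹ * u * Lam A ∈ Urad F := by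
  simpa using Lam_conj A⁻¹ hu

theorem Lam_toG (X : SL2F) : Lam (toG X) = f1 X := by
  rw [Lam_apply, sA_toG, dl_toG, map_one, mul_one]

theorem Lam_glD (a d : Fˣ) : Lam (glD a d) = T (a * d⁻¹, a⁻¹ * (d * d)) := by
  rw [Lam_apply, sA_glD, dl_glD, f1_dM, tau_apply, ← map_mul]
  congr 1
  refine Prod.ext ?_ ?_ <;> apply Units.ext <;> simp <;> field_simp

theorem T_eq_Lam (u v : Fˣ) : T (u, v) = Lam (glD (u ^ 2 * v) (u * v)) := by
  rw [Lam_glD]
  congr 1
  refine Prod.ext ?_ ?_ <;> apply Units.ext <;> simp <;> field_simp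

theorem Lam_x11 (A : GL2F) (t : F) : Lam A * x 11 t * (Lam A)⁻¹ = x 11 ((dl A : F) * t) := by
  rw [Lam_apply, mul_inv_rev,
    show f1 (sA A) * tau (dl A) * x 11 t * ((tau (dl A))⁻¹ * (f1 (sA A))⁻¹) =
      f1 (sA A) * (tau (dl A) * x 11 t * (tau (dl A))⁻¹) * (f1 (sA A))⁻¹ by group,
    tau_conj (by norm_num), (f1_commute_x (by simp) _ _).eq, mul_inv_cancel_right,
    GTwoOdd.diff_vals.2.2.1, zpow_one]

/-! ### The parabolic subgroup -/

/-- The parabolic subgroup, as the set of products of the Levi complement and the radical. -/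
def InP (g : GG) : Prop := ∃ A : GL2F, ∃ u ∈ Urad F, g = Lam A * u

theorem InP.of_rad {u : GG} (hu : u ∈ Urad F) : InP u := ⟨1, u, hu, by rw [map_one, one_mul]⟩

theorem InP.of_Lam (A : GL2F) : InP (Lam A : GG) := ⟨A, 1, one_mem _, (mul_one _).symm⟩

theorem InP.mul {g h : GG} (hg : InP g) (hh : InP h) : InP (g * h) := by
  obtain ⟨A, u, hu, rfl⟩ := hg
  obtain ⟨C, v, hv, rfl⟩ := hh
  refine ⟨A * C, (Lam C)⁻¹ * u * Lam C * v, mul_mem (Lam_conj' C hu) hv, ?_⟩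
  rw [map_mul]; group

theorem InP.of_pos {g : GG} (hg : g ∈ chevG2.posUnipotent F) : InP g := by
  obtain ⟨A, B, C, D, E, G, rfl⟩ := exists_mk hg
  have h7 : InP (x 7 B : GG) := by rw [← f1_uM, ← Lam_toG]; exact InP.of_Lam _
  have hr : ∀ r ∈ radRoots, ∀ t : F, InP (x r t : GG) := fun r hr t => InP.of_rad (x_mem_Urad hr t)
  exact (((((hr 6 (by simp [radRoots]) A).mul h7).mul (hr 8 (by simp [radRoots]) C)).mul
    (hr 9 (by simp [radRoots]) D)).mul (hr 10 (by simp [radRoots]) E)).mul (hr 11 (by simp [radRoots]) G)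

theorem InP.of_diag {g : GG} (hg : g ∈ chevG2.diagonalSubgroup F) : InP g := by
  obtain ⟨⟨u, v⟩, rfl⟩ := exists_T hg
  rw [T_eq_Lam]; exact InP.of_Lam _

theorem InP.of_borel {g : GG} (hg : g ∈ chevG2.borelSubgroup F) : InP g := by
  obtain ⟨u, hu, d, hd, rfl⟩ := S2.borel_decomp hg
  exact (InP.of_pos hu).mul (InP.of_diag hd)

theorem InP.of_f1 (X : SL2F) : InP (f1 X : GG) := by rw [← Lam_toG]; exact InP.of_Lam _

/-! ### The opposite radical -/

/-- The representative of the central element `-1` of the Weyl group. -/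
noncomputable def n0 : GG := f1 wM * f2 wM

theorem n0_mem : (n0 : GG) ∈ chevG2.group F := mul_mem (f1_mem_group _) (f2_mem_group _)

theorem act_conj {n : GG} {L : List (Fin chevG2.rank)} (h : Act S2.ok n (S2.wpL L)) {r r' : ℕ} (hr : r < 12)
    (e : wv L r = r') : ∃ c : F, c ≠ 0 ∧ ∀ t : F, n * x r t * n⁻¹ = x r' (c * t) := by
  obtain ⟨-, c, hc, ec⟩ := h ⟨r, half_eq.2.symm ▸ hr⟩
  refine ⟨c, hc, fun t => ?_⟩
  have h2 := (ec t).1
  rw [act_eq hr e] at h2
  exact h2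

theorem act_conj' {n : GG} {L : List (Fin chevG2.rank)} (h : Act S2.ok n (S2.wpL L)) {r r' : ℕ} (hr : r < 12)
    (e : wv L r = r') (t : F) : ∃ s : F, n⁻¹ * x r' t * n = x r s := by
  obtain ⟨c, hc, ec⟩ := act_conj h hr e
  refine ⟨t / c, ?_⟩
  have := ec (t / c)
  rw [mul_div_cancel₀ _ hc] at this
  rw [← this]; group

theorem wpL_append (L M : List (Fin chevG2.rank)) : S2.wpL (L ++ M) = S2.wpL L * S2.wpL M := by
  simp [Struct.wpL]

theorem f1_wM_act : Act S2.ok (f1 wM : GG) (S2.wpL [i0]) := f1_wM (F := F) ▸ S2.act_nL [i0]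

theorem fb_wM_act : Act S2.ok (fb wM : GG) (S2.wpL [i1]) := fb_wM (F := F) ▸ S2.act_nL [i1]

theorem n0_act : Act S2.ok (n0 : GG) (S2.wpL ([i0] ++ W2)) := by
  rw [wpL_append]; exact S2.act_mul f1_wM_act f2_wM_act

theorem n0_roots : ∀ r ∈ radRoots, wv ([i0] ++ W2) r = 11 - r := by decide +kernel

/-- The opposite radical. -/
noncomputable def Vrad (F : Type*) [Field F] : Subgroup (GL chevG2.Idx F) :=
  (Urad F).map (MulAut.conj (n0 : GL chevG2.Idx F)).toMonoidHom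

theorem mem_Vrad {v : GG} : v ∈ Vrad F ↔ ∃ u ∈ Urad F, n0 * u * (n0 : GG)⁻¹ = v := Subgroup.mem_map

theorem x_mem_Vrad {r : ℕ} (hr : r ∈ radRoots) (t : F) : (x (11 - r) t : GG) ∈ Vrad F := by
  obtain ⟨c, hc, e⟩ := act_conj (n0_act (F := F)) (radRoots_lt r hr).1 (n0_roots r hr)
  refine mem_Vrad.2 ⟨x r (t / c), x_mem_Urad hr _, ?_⟩
  rw [e, mul_div_cancel₀ _ hc]

/-- The transpose of an invertible matrix. -/
def trG (A : GL2F) : GL2F where
  val := (A : M2).transpose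
  inv := ((A⁻¹ : GL2F) : M2).transpose
  val_inv := by rw [← Matrix.transpose_mul, ← Units.val_mul, inv_mul_cancel, Units.val_one, Matrix.transpose_one]
  inv_val := by rw [← Matrix.transpose_mul, ← Units.val_mul, mul_inv_cancel, Units.val_one, Matrix.transpose_one]

theorem trG_val (A : GL2F) : (trG A : M2) = (A : M2).transpose := rfl

theorem dl_trG (A : GL2F) : dl (trG A) = dl A := by
  apply Units.ext; rw [dl_val, dl_val, trG_val]; simp; ring

theorem mat_wM_inv : mat ((wM : SL2F)⁻¹) = !![0, -1; 1, 0] := by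
  rw [mat, Matrix.SpecialLinearGroup.coe_inv, show ((wM : SL2F) : M2) = !![0, 1; -1, 0] from rfl,
    Matrix.adjugate_fin_two_of]
  simp

theorem n0_tau (δ : Fˣ) : (n0 : GG)⁻¹ * tau δ * n0 = tau δ⁻¹ := by
  have e : (wM : SL2F)⁻¹ * dconj δ wM = dM δ⁻¹ := by
    apply mat_inj
    rw [mat_mul, mat_wM_inv, mat_dconj, mat_wM, mat_dM]
    ext i j
    fin_cases i <;> fin_cases j <;> simp [Matrix.mul_apply, Fin.sum_univ_two]
  have h0 : (n0 : GG)⁻¹ = f1 wM⁻¹ * f2 wM⁻¹ := by rw [n0, mul_inv_rev, map_inv, map_inv, ← map_inv, ← map_inv, ← f1_f2]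
  rw [h0, n0, show f1 wM⁻¹ * f2 wM⁻¹ * tau δ * (f1 wM * f2 wM) =
      f1 wM⁻¹ * f2 wM⁻¹ * ((tau δ * f1 wM) * f2 wM) by simp only [mul_assoc], tau_f1,
    show f1 (dconj δ wM) * tau δ * f2 wM = f1 (dconj δ wM) * (tau δ * f2 wM) by simp only [mul_assoc], tau_f2,
    show f1 wM⁻¹ * f2 wM⁻¹ * (f1 (dconj δ wM) * (f2 (dconj δ wM) * tau δ)) =
      f1 wM⁻¹ * (f2 wM⁻¹ * f1 (dconj δ wM)) * f2 (dconj δ wM) * tau δ by simp only [mul_assoc], ← f1_f2,
    show f1 wM⁻¹ * (f1 (dconj δ wM) * f2 wM⁻¹) * f2 (dconj δ wM) * tau δ =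
      (f1 wM⁻¹ * f1 (dconj δ wM)) * (f2 wM⁻¹ * f2 (dconj δ wM)) * tau δ by simp only [mul_assoc],
    ← map_mul, ← map_mul, e, f1_dM, f2_dM, tau_apply, tau_apply, ← map_mul, ← map_mul]
  congr 1
  refine Prod.ext ?_ ?_ <;> apply Units.ext <;> simp <;> field_simp

theorem n0_Lam (A : GL2F) : (n0 : GG)⁻¹ * Lam A * n0 = (Lam (trG A))⁻¹ := by
  rw [eq_inv_iff_mul_eq_one, Lam_apply, Lam_apply, dl_trG]
  have h1 : ∀ X : SL2F, (n0 : GG)⁻¹ * f1 X * n0 = f1 (wM⁻¹ * X * wM) := fun X => by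
    rw [map_mul, map_mul, map_inv, n0, mul_inv_rev]
    have hc : f1 X * f1 wM * f2 wM = f2 wM * (f1 X * f1 wM) := by
      rw [mul_assoc, f1_f2, ← mul_assoc, f1_f2, mul_assoc]
    calc (f2 wM)⁻¹ * (f1 wM)⁻¹ * f1 X * (f1 wM * f2 wM)
        = (f2 wM)⁻¹ * (f1 wM)⁻¹ * (f1 X * f1 wM * f2 wM) := by simp only [mul_assoc]
      _ = (f2 wM)⁻¹ * ((f1 wM)⁻¹ * f2 wM) * (f1 X * f1 wM) := by rw [hc]; simp only [mul_assoc]
      _ = _ := by rw [← map_inv f1, f1_f2, inv_mul_cancel_left, map_inv, mul_assoc]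
  have e : wM⁻¹ * sA A * wM * dconj (dl A)⁻¹ (sA (trG A)) = 1 := by
    have hd := dl_val A
    apply mat_inj
    rw [mat_mul, mat_mul, mat_mul, mat_wM_inv, mat_dconj, mat_wM, mat_sA, mat_sA, dl_trG, trG_val, mat_one]
    have h0 := (dl A).ne_zero
    ext i j
    fin_cases i <;> fin_cases j <;> simp [Matrix.mul_apply, Fin.sum_univ_two] <;> field_simp <;>
      first | ring1 | linear_combination hd | linear_combination -hd
  rw [show (n0 : GG)⁻¹ * (f1 (sA A) * tau (dl A)) * n0 * (f1 (sA (trG A)) * tau (dl A)) =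
      ((n0 : GG)⁻¹ * f1 (sA A) * n0) * (((n0 : GG)⁻¹ * tau (dl A) * n0) * f1 (sA (trG A))) * tau (dl A) by group,
    h1, n0_tau, tau_f1,
    show ∀ a b c d : GG, a * (b * c) * d = (a * b) * (c * d) from fun a b c d => by group,
    ← map_mul, ← map_mul, e, inv_mul_cancel, map_one, map_one, mul_one]

end Cfsg.Lib.GTwoCover
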